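import Groth.Agent.Lib.FSchInd28.Span

/-!
# Presentations on slices of a space
-/

set_option autoImplicit false
set_option linter.style.haveILetI false
universe u

open CategoryTheory CategoryTheory.Limits Opposite TopologicalSpace
open Groth.Agent.Lib.EtMod

namespace Groth.Agent.Lib.CartPull.Pres

open Groth.Agent.Lib.FSchInd28.Span (secOf mem_over_of_locally)
open Groth.Agent.H30

variable {X : TopCat.{u}} {R : Sheaf (Opens.grothendieckTopology X) RingCat.{u}} {W : Opens X}

/-- The top object of the slice. -/
abbrev top (W : Opens X) : Over W := Over.mk (𝟙 W)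

/-- The map to the top object. -/
abbrev toTop (Z : Over W) : Z ⟶ top W := Over.homMk Z.hom

theorem hom_eq {Z Z' : Over W} (a b : Z' ⟶ Z) : a = b := Over.OverMorphism.ext (Subsingleton.elim _ _)

theorem secOf_top (A : SheafOfModules.{u} (R.over W)) (t : A.val.obj (op (top W))) :
    PresheafOfModules.sections.eval (secOf A t) (op (top W)) = t := by
  show A.val.map (toTop (top W)).op t = t
  rw [hom_eq (toTop (top W)) (𝟙 _), op_id, A.val.map_id]
  rfl

theorem sections_ext_top {A : SheafOfModules.{u} (R.over W)} {s s' : A.sections}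
    (h : PresheafOfModules.sections.eval s (op (top W)) = PresheafOfModules.sections.eval s' (op (top W))) :
    s = s' := by
  refine Subtype.ext (funext fun Z => ?_)
  exact ((s.2 (toTop Z.unop).op).symm.trans (congrArg _ h)).trans (s'.2 (toTop Z.unop).op)

/-- Maps out of a free module are determined by their values on combinations over the top. -/
theorem hom_ext_free {A : SheafOfModules.{u} (R.over W)} {I : Type u} {a b : SheafOfModules.free I ⟶ A}
    (h : ∀ i, PresheafOfModules.sections.eval (A.freeHomEquiv a i) (op (top W)) =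
      PresheafOfModules.sections.eval (A.freeHomEquiv b i) (op (top W))) : a = b :=
  A.freeHomEquiv.injective (funext fun i => sections_ext_top (h i))

/-- A cover of a member of the slice gives neighbourhoods. -/
theorem exists_of_mem (Z : Over W) {S : Sieve Z} (hS : S ∈ (Opens.grothendieckTopology X).over W Z)
    {z : X} (hz : z ∈ Z.left) : ∃ (Z' : Over W) (f : Z' ⟶ Z), z ∈ Z'.left ∧ S f := by
  obtain ⟨V, a, ha, hzV⟩ := (GrothendieckTopology.mem_over_iff _ _).1 hS z hz
  rw [Sieve.overEquiv_iff] at ha
  exact ⟨Over.mk (a ≫ Z.hom), Over.homMk a rfl, hzV, ha⟩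

/-- On a compact slice a section of a free module is a finite combination of the basis. -/
theorem exists_combFree {I : Type u} (hW : IsCompact (W : Set X))
    (m : (SheafOfModules.free (R := R.over W) I).val.obj (op (top W))) :
    ∃ b : I →₀ (R.over W).obj.obj (op (top W)), SubSheaf.combFree (top W) b = m := by
  classical
  obtain ⟨S, hS, hS'⟩ := SubSheaf.exists_local_combFree m
  have key : ∀ z : W, ∃ (Z : Over W) (b : I →₀ (R.over W).obj.obj (op Z)), z.1 ∈ Z.left ∧
      SubSheaf.combFree Z b = (SheafOfModules.free (R := R.over W) I).val.map (toTop Z).op m := by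
    intro z
    obtain ⟨Z, f, hz, hf⟩ := exists_of_mem (top W) hS z.2
    obtain ⟨b, hb⟩ := hS' f hf
    exact ⟨Z, b, hz, hom_eq f (toTop Z) ▸ hb⟩
  choose Z b hz hb using key
  obtain ⟨T, hT⟩ := hW.elim_finite_subcover (fun z : W => ((Z z).left : Set X))
    (fun z => (Z z).left.isOpen) (fun x hx => Set.mem_iUnion.2 ⟨⟨x, hx⟩, hz ⟨x, hx⟩⟩)
  let F : Finset I := T.biUnion fun z => (b z).support
  let e : I → I → (SheafOfModules.unit (R.over W)).sections := fun i j =>
    secOf _ (if j = i then (1 : (R.over W).obj.obj (op (top W))) else 0)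
  let δ : I → (SheafOfModules.free (R := R.over W) I ⟶ SheafOfModules.unit (R.over W)) :=
    fun i => (SheafOfModules.unit (R.over W)).freeHomEquiv.symm (e i)
  have hδ : ∀ (i : I) (Y : Over W) (c : I →₀ (R.over W).obj.obj (op Y)),
      (δ i).val.app (op Y) (SubSheaf.combFree Y c) = c i := by
    intro i Y c
    rw [SubSheaf.freeHomEquiv_app_combFree, Equiv.apply_symm_apply, Finsupp.linearCombination_apply, Finsupp.sum,
      Finset.sum_eq_single (s := c.support) i]
    · show c i * ((R.over W).obj.map (toTop Y).op) (if i = i then 1 else 0) = c i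
      rw [if_pos rfl, map_one, mul_one]
    · intro j _ hj
      show c j * ((R.over W).obj.map (toTop Y).op) (if j = i then 1 else 0) = 0
      rw [if_neg hj, map_zero, mul_zero]
    · intro hi
      rw [Finsupp.notMem_support_iff.1 hi, zero_smul]
  let c : I → (R.over W).obj.obj (op (top W)) := fun i => (δ i).val.app (op (top W)) m
  let B : I →₀ (R.over W).obj.obj (op (top W)) :=
    Finsupp.onFinset F (fun i => if i ∈ F then c i else 0) (fun i hi => by by_contra h; exact hi (if_neg h))
  refine ⟨B, SubSheaf.sections_ext _ (S := Sieve.ofArrows (fun z : T => Z z.1) (fun z => toTop (Z z.1)))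
    (mem_over_of_locally _ _ fun x hx => ?_) ?_⟩
  · obtain ⟨z, hzT, hxz⟩ : ∃ z ∈ T, x ∈ (Z z).left := by simpa using hT hx
    exact ⟨Z z, toTop _, hxz, Sieve.ofArrows_mk _ _ (⟨z, hzT⟩ : T)⟩
  · rintro Y f ⟨_, a, _, ⟨z⟩, rfl⟩
    rw [op_comp, PresheafOfModules.map_comp_apply, PresheafOfModules.map_comp_apply, ← hb z.1,
      PresGen.combFree_map (toTop (Z z.1)) B]
    congr 2
    refine Finsupp.ext fun i => ?_
    show ((R.over W).obj.map (toTop (Z z.1)).op) (B i) = b z.1 i
    rw [← hδ i (Z z.1) (b z.1), hb]
    by_cases hi : i ∈ F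
    · rw [show B i = c i from if_pos hi]
      exact (PresheafOfModules.naturality_apply (δ i).val (toTop (Z z.1)).op m).symm
    · rw [show B i = 0 from if_neg hi, map_zero, ← hb, hδ,
        Finsupp.notMem_support_iff.1 fun h => hi (Finset.mem_biUnion.2 ⟨z.1, z.2, h⟩)]

/-- The relations of a presentation by a free map. -/
theorem rel_presentationOfIsCokernelFree {A : SheafOfModules.{u} (R.over W)} {ι σ : Type u}
    (f : SheafOfModules.free ι ⟶ SheafOfModules.free σ) (π : SheafOfModules.free σ ⟶ A) (H : f ≫ π = 0)
    (H' : IsColimit (CokernelCofork.ofπ π H)) (j : ι) (Y : Over W) :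
    PresGen.rel (SheafOfModules.presentationOfIsCokernelFree f π H H') j Y =
      PresheafOfModules.sections.eval ((SheafOfModules.free σ).freeHomEquiv f j) (op Y) := by
  show _ = f.val.app (op Y) (PresheafOfModules.sections.eval (SheafOfModules.freeSection j) (op Y))
  refine Eq.trans ?_ (congrArg (fun k : SheafOfModules.free ι ⟶ SheafOfModules.free σ =>
    k.val.app (op Y) (PresheafOfModules.sections.eval (SheafOfModules.freeSection j) (op Y)))
    (kernel.lift_ι (SheafOfModules.generatorsOfIsCokernelFree f π H H').π f (by rw [SheafOfModules.generatorsOfIsCokernelFree_π]; exact H)))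
  rfl

end Groth.Agent.Lib.CartPull.Pres
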