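import Groth.Agent.Lib.CartPull.Slice
import Groth.Agent.Lib.CartPull.Pres
import Mathlib.CategoryTheory.Sites.LocallySurjective

/-!
# Pullback of quasi-coherent modules along an affine map of underlying spaces
-/

set_option autoImplicit false
set_option linter.style.haveILetI false
set_option backward.isDefEq.respectTransparency false
set_option backward.isDefEq.respectTransparency.types false
set_option maxHeartbeats 2000000
universe u

open CategoryTheory CategoryTheory.Limits AlgebraicGeometry Opposite TopologicalSpace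
open Groth.Agent.Lib.EtMod
open Groth.Agent.H30

namespace Groth.Agent.Lib.CartPull

open Groth.Agent.H48.CartPush (Ring' push pre IsAffMap)
open Groth.Agent.Lib.FSchInd28.Span (secOf)
open Pres (top toTop secOf_top hom_ext_free)

/-- Membership in a span after localisation. -/
theorem exists_pow_smul_mem_span {R S M₀ M₁ : Type*} [CommRing R] [CommRing S] [AddCommGroup M₀] [Module R M₀]
    [AddCommGroup M₁] [Module S M₁] [Algebra R S] (h : R) [IsLocalization.Away h S] (φ : M₀ →+ M₁)
    (hsmul : ∀ (r : R) x, φ (r • x) = algebraMap R S r • φ x)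
    (hker : ∀ x, φ x = 0 → ∃ k : ℕ, h ^ k • x = 0)
    (s : Set M₀) (b : M₀) (hb : φ b ∈ Submodule.span S (φ '' s)) :
    ∃ n : ℕ, h ^ n • b ∈ Submodule.span R s := by
  have key : ∀ y ∈ Submodule.span S (φ '' s), ∃ (n : ℕ) (c : M₀), c ∈ Submodule.span R s ∧
      φ c = algebraMap R S (h ^ n) • y := by
    intro y hy
    induction hy using Submodule.span_induction with
    | mem y hy =>
      obtain ⟨c, hc, rfl⟩ := hy
      exact ⟨0, c, Submodule.subset_span hc, by rw [pow_zero, map_one, one_smul]⟩
    | zero => exact ⟨0, 0, zero_mem _, by rw [smul_zero, map_zero]⟩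
    | add y y' _ _ hy hy' =>
      obtain ⟨n, c, hc, e⟩ := hy
      obtain ⟨n', c', hc', e'⟩ := hy'
      refine ⟨n + n', h ^ n' • c + h ^ n • c',
        add_mem (Submodule.smul_mem _ _ hc) (Submodule.smul_mem _ _ hc'), ?_⟩
      rw [map_add, hsmul, hsmul, e, e', smul_smul, smul_smul, ← map_mul, ← map_mul, ← pow_add, ← pow_add,
        smul_add, add_comm n' n]
    | smul a y _ hy =>
      obtain ⟨n, c, hc, e⟩ := hy
      obtain ⟨a', ⟨_, m, rfl⟩, ha⟩ := IsLocalization.exists_mk'_eq (Submonoid.powers h) a
      rw [IsLocalization.mk'_eq_iff_eq_mul] at ha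
      refine ⟨n + m, a' • c, Submodule.smul_mem _ _ hc, ?_⟩
      rw [hsmul, e, smul_smul, smul_smul, pow_add, map_mul, ha]
      exact congrArg (· • y) (by ring)
  obtain ⟨n, c, hc, e⟩ := key _ hb
  obtain ⟨k, hk⟩ := hker (h ^ n • b - c) (by rw [map_sub, hsmul, e, sub_self])
  refine ⟨k + n, ?_⟩
  rw [smul_sub, smul_smul, sub_eq_zero, ← pow_add] at hk
  rw [hk]
  exact Submodule.smul_mem _ _ hc

/-- An ideal of functions on an affine open containing a nowhere vanishing family is everything. -/
theorem one_mem_of_forall {X : Scheme.{u}} {U : X.Opens} (hU : IsAffineOpen U) (Id : Ideal Γ(X, U))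
    (h : ∀ x ∈ U, ∃ a ∈ Id, x ∈ X.basicOpen a) : (1 : Γ(X, U)) ∈ Id := by
  have h1 : Ideal.span (Id : Set Γ(X, U)) = ⊤ := by
    rw [← hU.iSup_basicOpen_eq_self_iff]
    refine le_antisymm (iSup_le fun a => X.basicOpen_le _) fun x hx => ?_
    obtain ⟨a, ha, hxa⟩ := h x hx
    exact Opens.mem_iSup.2 ⟨⟨a, ha⟩, hxa⟩
  rw [Ideal.span_eq] at h1
  rw [h1]
  trivial

variable {Tc U : Scheme.{u}} {g : Tc.carrier ⟶ U.carrier}
variable {L : SheafOfModules.{u} (Ring' g) ⥤ Tc.Modules} (adj : L ⊣ push g)
variable {N : SheafOfModules.{u} (Ring' g)} {W : U.Opens} (P : (N.over W).Presentation)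

/-- The restricted unit is linear on combinations. -/
theorem map_lc (A : SheafOfModules.{u} (Tc.ringCatSheaf.over (pre g W))) (d : N.over W ⟶ (sP g W).obj A)
    (Z : Over W) (b : P.generators.I →₀ ((Ring' g).over W).obj.obj (op Z)) :
    d.val.app (op Z) (PresGen.lc P.generators Z b) =
      Finsupp.linearCombination ((Tc.ringCatSheaf.over (pre g W)).obj.obj (op ((sliceF g W).obj Z)))
        (fun i => (show A.val.obj (op ((sliceF g W).obj Z)) from d.val.app (op Z) (PresGen.gen P.generators i Z))) b := by
  simp only [PresGen.lc, Finsupp.linearCombination_apply, Finsupp.sum, map_sum, map_smul]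
  rfl

/-- The value on the top of the slice. -/
noncomputable def topVal (A : SheafOfModules.{u} (Tc.ringCatSheaf.over (pre g W))) (d : N.over W ⟶ (sP g W).obj A)
    (i : P.generators.I) : A.val.obj (op (top (pre g W))) :=
  d.val.app (op (top W)) (PresGen.gen P.generators i (top W))

theorem map_lc_top (A : SheafOfModules.{u} (Tc.ringCatSheaf.over (pre g W))) (d : N.over W ⟶ (sP g W).obj A)
    (b : P.generators.I →₀ ((Ring' g).over W).obj.obj (op (top W))) :
    d.val.app (op (top W)) (PresGen.lc P.generators (top W) b) =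
      Finsupp.linearCombination ((Tc.ringCatSheaf.over (pre g W)).obj.obj (op (top (pre g W))))
        (topVal P A d) b := by
  simp only [PresGen.lc, Finsupp.linearCombination_apply, Finsupp.sum, map_sum, map_smul]
  rfl

/-- Evaluating maps out of free modules at the top. -/
theorem app_combFree_top {X : TopCat.{u}} {R : Sheaf (Opens.grothendieckTopology X) RingCat.{u}} {V : Opens X}
    {A : SheafOfModules.{u} (R.over V)} {I : Type u} (h : SheafOfModules.free I ⟶ A)
    (v : I → A.val.obj (op (top V))) (hv : ∀ i, PresheafOfModules.sections.eval (A.freeHomEquiv h i) (op (top V)) = v i)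
    (b : I →₀ (R.over V).obj.obj (op (top V))) :
    h.val.app (op (top V)) (SubSheaf.combFree (top V) b) = Finsupp.linearCombination _ v b := by
  rw [SubSheaf.freeHomEquiv_app_combFree]
  exact congrArg (fun v => Finsupp.linearCombination _ v b) (funext hv)

/-- The images of the generators. -/
noncomputable def t (i : P.generators.I) : ((L.obj N).over (pre g W)).sections :=
  secOf _ (show ((L.obj N).over (pre g W)).val.obj (op (top (pre g W))) from
    (restrictUnit adj N).val.app (op (top W)) (PresGen.gen P.generators i (top W)))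

theorem t_top (i : P.generators.I) :
    PresheafOfModules.sections.eval (t adj P i) (op (top (pre g W))) =
      (restrictUnit adj N).val.app (op (top W)) (PresGen.gen P.generators i (top W)) :=
  secOf_top _ _

theorem eval_t (i : P.generators.I) (Z : Over W) :
    PresheafOfModules.sections.eval (t adj P i) (op ((sliceF g W).obj Z)) =
      (restrictUnit adj N).val.app (op Z) (PresGen.gen P.generators i Z) := by
  rw [← PresGen.gen_map P.generators i (toTop Z), PresheafOfModules.naturality_apply]
  rfl

theorem exists_B (hW : IsCompact (W : Set U)) :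
    ∃ B : P.relations.I → P.generators.I →₀ ((Ring' g).over W).obj.obj (op (top W)),
      ∀ j, SubSheaf.combFree (top W) (B j) = PresGen.rel P j (top W) :=
  ⟨_, fun j => (Pres.exists_combFree hW (PresGen.rel P j (top W))).choose_spec⟩

/-- The value of a map from a free module on a pushed combination. -/
theorem linComb_sP (A : SheafOfModules.{u} (Tc.ringCatSheaf.over (pre g W))) {I : Type u}
    (v : I → A.val.obj (op (top (pre g W)))) (b : I →₀ ((Ring' g).over W).obj.obj (op (top W))) :
    (Finsupp.linearCombination (((Ring' g).over W).obj.obj (op (top W)))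
      (v : I → ((sP g W).obj A).val.obj (op (top W))) b : A.val.obj (op (top (pre g W)))) =
      Finsupp.linearCombination ((Tc.ringCatSheaf.over (pre g W)).obj.obj (op (top (pre g W)))) v b := by
  simp only [Finsupp.linearCombination_apply]
  rfl

theorem top_gen (d : N.over W ⟶ N.over W) (i : P.generators.I) :
    PresheafOfModules.sections.eval ((N.over W).freeHomEquiv (P.generators.π ≫ d) i) (op (top W)) =
      d.val.app (op (top W)) (PresGen.gen P.generators i (top W)) := by
  rw [SheafOfModules.freeHomEquiv_comp_apply,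
    show (N.over W).freeHomEquiv P.generators.π = P.generators.s from (N.over W).freeHomEquiv.apply_symm_apply _]
  rfl

theorem top_gen' {A : SheafOfModules.{u} ((Ring' g).over W)} (d : N.over W ⟶ A) (i : P.generators.I) :
    PresheafOfModules.sections.eval (A.freeHomEquiv (P.generators.π ≫ d) i) (op (top W)) =
      d.val.app (op (top W)) (PresGen.gen P.generators i (top W)) := by
  rw [SheafOfModules.freeHomEquiv_comp_apply,
    show (N.over W).freeHomEquiv P.generators.π = P.generators.s from (N.over W).freeHomEquiv.apply_symm_apply _]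
  rfl

/-- Values of a composite out of a free module. -/
theorem eval_comp {X : TopCat.{u}} {R : Sheaf (Opens.grothendieckTopology X) RingCat.{u}} {V : Opens X}
    {A A' : SheafOfModules.{u} (R.over V)} {I : Type u} (h : SheafOfModules.free I ⟶ A) (p : A ⟶ A') (i : I)
    (Z : (Over V)ᵒᵖ) :
    PresheafOfModules.sections.eval (A'.freeHomEquiv (h ≫ p) i) Z =
      p.val.app Z (PresheafOfModules.sections.eval (A.freeHomEquiv h i) Z) := rfl

theorem eval_zero {X : TopCat.{u}} {R : Sheaf (Opens.grothendieckTopology X) RingCat.{u}} {V : Opens X}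
    {A : SheafOfModules.{u} (R.over V)} {I : Type u} (i : I) (Z : (Over V)ᵒᵖ) :
    PresheafOfModules.sections.eval (A.freeHomEquiv (0 : SheafOfModules.free I ⟶ A) i) Z = 0 := rfl

theorem eval_rel (j : P.relations.I) :
    (kernel.ι P.generators.π).val.app (op (top W)) (PresheafOfModules.sections.eval
        ((kernel P.generators.π).freeHomEquiv ((kernel P.generators.π).freeHomEquiv.symm P.relations.s) j) (op (top W))) =
      PresGen.rel P j (top W) := by
  rw [Equiv.apply_symm_apply]
  rfl

/-- Sections satisfying the relations extend to the module upstairs. -/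
theorem exists_desc (B : P.relations.I → P.generators.I →₀ ((Ring' g).over W).obj.obj (op (top W)))
    (hB : ∀ j, SubSheaf.combFree (top W) (B j) = PresGen.rel P j (top W))
    (A : SheafOfModules.{u} (Tc.ringCatSheaf.over (pre g W))) (v : P.generators.I → A.val.obj (op (top (pre g W))))
    (hv : ∀ j, Finsupp.linearCombination ((Tc.ringCatSheaf.over (pre g W)).obj.obj (op (top (pre g W)))) v (B j) = 0) :
    ∃ d : N.over W ⟶ (sP g W).obj A, ∀ i, topVal P A d i = v i := by
  let v' : P.generators.I → ((sP g W).obj A).val.obj (op (top W)) := v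
  let k : SheafOfModules.free P.generators.I ⟶ (sP g W).obj A :=
    ((sP g W).obj A).freeHomEquiv.symm fun i => secOf _ (v' i)
  have hkv : ∀ i, PresheafOfModules.sections.eval (((sP g W).obj A).freeHomEquiv k i) (op (top W)) = v' i := fun i => by
    rw [Equiv.apply_symm_apply]
    exact secOf_top _ _
  have hk : ((kernel P.generators.π).freeHomEquiv.symm P.relations.s ≫ kernel.ι _) ≫ k = 0 := hom_ext_free fun j => by
    refine ((eval_comp _ k j _).trans (congrArg _ ((eval_comp _ _ j _).trans (eval_rel P j)))).trans ?_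
    refine Eq.trans ?_ (eval_zero j _).symm
    rw [← hB]
    exact ((app_combFree_top k v' hkv (B j)).trans (linComb_sP A v (B j))).trans (hv j)
  obtain ⟨d, hd⟩ := CokernelCofork.IsColimit.desc' P.isColimit k hk
  refine ⟨d, fun i => ?_⟩
  have h := top_gen' P d i
  rw [show P.generators.π ≫ d = k from hd, hkv] at h
  exact h.symm

/-- The restricted unit is determined by the generators. -/
theorem eq_of_topVal {A : SheafOfModules.{u} (Tc.ringCatSheaf.over (pre g W))}
    {d d' : N.over W ⟶ (sP g W).obj A} (h : ∀ i, topVal P A d i = topVal P A d' i) : d = d' := by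
  haveI : Epi P.generators.π := P.generators.epi
  refine (cancel_epi P.generators.π).1 (hom_ext_free fun i => ?_)
  rw [top_gen', top_gen']
  exact h i

/-- Values of a composite with the restricted unit. -/
theorem topVal_comp {A : SheafOfModules.{u} (Tc.ringCatSheaf.over (pre g W))}
    (c : (L.obj N).over (pre g W) ⟶ A) (i : P.generators.I) :
    topVal P A (restrictUnit adj N ≫ (sP g W).map c) i =
      c.val.app (op (top (pre g W))) (PresheafOfModules.sections.eval (t adj P i) (op (top (pre g W)))) := by
  rw [t_top]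
  rfl

/-- A presentation of the restriction of the pullback, with prescribed generators and relations. -/
theorem exists_presentation_pull (B : P.relations.I → P.generators.I →₀ ((Ring' g).over W).obj.obj (op (top W)))
    (hB : ∀ j, SubSheaf.combFree (top W) (B j) = PresGen.rel P j (top W)) :
    ∃ (f : SheafOfModules.free P.relations.I ⟶ SheafOfModules.free (R := Tc.ringCatSheaf.over (pre g W)) P.generators.I)
      (π : SheafOfModules.free P.generators.I ⟶ (L.obj N).over (pre g W)) (w : f ≫ π = 0)
      (_ : IsColimit (CokernelCofork.ofπ π w)),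
      (∀ i, ((L.obj N).over (pre g W)).freeHomEquiv π i = t adj P i) ∧
      ∀ j, PresheafOfModules.sections.eval ((SheafOfModules.free P.generators.I).freeHomEquiv f j) (op (top (pre g W))) =
        SubSheaf.combFree (R := Tc.ringCatSheaf.over (pre g W)) (top (pre g W)) (B j) := by
  let B' : P.relations.I → P.generators.I →₀ (Tc.ringCatSheaf.over (pre g W)).obj.obj (op (top (pre g W))) := B
  let f : SheafOfModules.free P.relations.I ⟶ SheafOfModules.free (R := Tc.ringCatSheaf.over (pre g W)) P.generators.I :=
    (SheafOfModules.free P.generators.I).freeHomEquiv.symm fun j =>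
      secOf _ (SubSheaf.combFree (R := Tc.ringCatSheaf.over (pre g W)) (top (pre g W)) (B' j))
  let π : SheafOfModules.free P.generators.I ⟶ (L.obj N).over (pre g W) :=
    ((L.obj N).over (pre g W)).freeHomEquiv.symm (t adj P)
  have hπ : ∀ i, ((L.obj N).over (pre g W)).freeHomEquiv π i = t adj P i :=
    fun i => congrFun (Equiv.apply_symm_apply _ _) i
  have hf : ∀ j, PresheafOfModules.sections.eval ((SheafOfModules.free P.generators.I).freeHomEquiv f j) (op (top (pre g W))) =
        SubSheaf.combFree (R := Tc.ringCatSheaf.over (pre g W)) (top (pre g W)) (B' j) := fun j => by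
    rw [Equiv.apply_symm_apply]
    exact secOf_top _ _
  have hlc : ∀ j, PresGen.lc P.generators (top W) (B j) = 0 := fun j => by
    rw [← PresGen.π_combFree, hB]
    exact PresGen.π_rel P j _
  have w : f ≫ π = 0 := hom_ext_free fun j => by
    refine ((eval_comp f π j _).trans ((congrArg _ (hf j)).trans
      (app_combFree_top π (topVal P _ (restrictUnit adj N)) (fun i => by
        rw [hπ]
        exact t_top adj P i) (B' j)))).trans ?_
    refine Eq.trans ?_ (eval_zero j _).symm
    exact (map_lc_top P _ (restrictUnit adj N) (B j)).symm.trans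
      ((congrArg ((restrictUnit adj N).val.app (op (top W))) (hlc j)).trans (map_zero _))
  have desc : ∀ {A : SheafOfModules.{u} (Tc.ringCatSheaf.over (pre g W))}
      (h : SheafOfModules.free P.generators.I ⟶ A) (_ : f ≫ h = 0), ∃ c, π ≫ c = h := by
    intro A h hh
    obtain ⟨d, hd⟩ := exists_desc P B hB A
      (fun i => PresheafOfModules.sections.eval (A.freeHomEquiv h i) (op (top (pre g W)))) (fun j => by
        refine (app_combFree_top h _ (fun i => rfl) (B' j)).symm.trans ((congrArg _ (hf j).symm).trans ?_)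
        refine Eq.trans ?_ (eval_zero (A := A) j (op (top (pre g W))))
        exact congrArg (fun a : SheafOfModules.free P.relations.I ⟶ A => a.val.app _
            (PresheafOfModules.sections.eval (SheafOfModules.freeSection j) (op (top (pre g W))))) hh)
    obtain ⟨c, hc⟩ := (restrictUnit_bijective adj N A).2 d
    refine ⟨c, hom_ext_free fun i => ?_⟩
    refine ((eval_comp π c i _).trans (congrArg (fun a => c.val.app _ (PresheafOfModules.sections.eval a _)) (hπ i))).trans ?_
    refine (topVal_comp adj P c i).symm.trans ?_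
    rw [show restrictUnit adj N ≫ (sP g W).map c = d from hc]
    exact hd i
  haveI : Epi π := ⟨fun {A} c c' e => (restrictUnit_bijective adj N A).1 (eq_of_topVal P fun i => by
    show topVal P A (restrictUnit adj N ≫ (sP g W).map c) i = topVal P A (restrictUnit adj N ≫ (sP g W).map c') i
    rw [topVal_comp, topVal_comp, ← hπ]
    exact congrArg (fun a => a.val.app _ (PresheafOfModules.sections.eval (SheafOfModules.freeSection i) (op (top (pre g W))))) e)⟩
  exact ⟨f, π, w, CokernelCofork.IsColimit.ofπ' π w fun h hh => ⟨(desc h hh).choose, (desc h hh).choose_spec⟩, hπ, hf⟩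

variable (hg : IsAffMap g)
include hg

/-- The unit is injective on affine opens of the presentation. -/
theorem unit_zero (hW : IsCompact (W : Set U)) (Z : Over W) (hZ : IsAffineOpen Z.left)
    (b : P.generators.I →₀ ((Ring' g).over W).obj.obj (op Z))
    (h0 : (restrictUnit adj N).val.app (op Z) (PresGen.lc P.generators Z b) = 0) :
    PresGen.lc P.generators Z b = 0 := by
  obtain ⟨B, hB⟩ := exists_B P hW
  obtain ⟨f, π, w, hc, hπ, hf⟩ := exists_presentation_pull adj P B hB
  let τ := SheafOfModules.presentationOfIsCokernelFree f π w hc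
  let D : Over (pre g W) := (sliceF g W).obj Z
  let bD : τ.generators.I →₀ Γ(Tc, pre g Z.left) := b
  have hb : PresGen.lc τ.generators D bD = 0 := by
    refine Eq.trans ?_ h0
    rw [map_lc P]
    refine congrArg (fun v => Finsupp.linearCombination _ v b) (funext fun i => ?_)
    exact (congrArg (fun a => PresheafOfModules.sections.eval a (op D)) (hπ i)).trans (eval_t adj P i Z)
  obtain ⟨S, hS, hS'⟩ := PresGen.exists_local_rel_expand τ (W := top (pre g W)) (toTop D) B
    (fun j => (hf j).symm.trans (Pres.rel_presentationOfIsCokernelFree f π w hc j _).symm) bD hb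
  let rb : P.relations.I → P.generators.I →₀ Γ(Tc, pre g Z.left) := fun j =>
    (show P.generators.I →₀ (Tc.ringCatSheaf.over (pre g W)).obj.obj (op D) from
      PresGen.resC (R := Tc.ringCatSheaf.over (pre g W)) (X := top (pre g W)) (toTop D) (B j) :)
  let Id : Ideal Γ(Tc, pre g Z.left) :=
    (Submodule.span Γ(Tc, pre g Z.left) (Set.range rb)).comap (LinearMap.toSpanSingleton _ _ bD)
  have h1 : (1 : Γ(Tc, pre g Z.left)) ∈ Id := one_mem_of_forall (hg.aff Z.left hZ) Id fun x hx => by
    obtain ⟨D', a, hxD', ha⟩ := Pres.exists_of_mem D hS hx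
    obtain ⟨h, hle, hxh⟩ := (hg.aff Z.left hZ).exists_basicOpen_le (V := D'.left) ⟨x, hxD'⟩ hx
    have hD : (Tc.basicOpen h : Tc.Opens) ≤ pre g Z.left := Tc.basicOpen_le h
    let D'' : Over (pre g W) := Over.mk (homOfLE hD ≫ D.hom)
    let a'' : D'' ⟶ D := Over.homMk (homOfLE hD) rfl
    let c : D'' ⟶ D' := Over.homMk (homOfLE hle) (Subsingleton.elim _ _)
    obtain ⟨d, hd⟩ := hS' a'' (Pres.hom_eq (c ≫ a) a'' ▸ S.downward_closed ha c)
    letI : Algebra Γ(Tc, pre g Z.left) Γ(Tc, Tc.basicOpen h) := (Tc.presheaf.map (homOfLE hD).op).hom.toAlgebra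
    haveI : IsLocalization.Away h Γ(Tc, Tc.basicOpen h) := (hg.aff Z.left hZ).isLocalization_of_eq_basicOpen h (homOfLE hD) rfl
    obtain ⟨n, hn⟩ := exists_pow_smul_mem_span (S := Γ(Tc, Tc.basicOpen h)) h
      (Finsupp.mapRange.addMonoidHom (ι := P.generators.I) (algebraMap Γ(Tc, pre g Z.left) Γ(Tc, Tc.basicOpen h)).toAddMonoidHom)
      (fun r y => Finsupp.ext fun i => map_mul (algebraMap Γ(Tc, pre g Z.left) Γ(Tc, Tc.basicOpen h)) r (y i))
      (fun y hy => by
        have hyi : ∀ i, ∃ k : ℕ, h ^ k * y i = 0 := fun i => by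
          obtain ⟨⟨_, k, rfl⟩, hk⟩ := (IsLocalization.map_eq_zero_iff (Submonoid.powers h) Γ(Tc, Tc.basicOpen h) (y i)).1
            (DFunLike.congr_fun hy i)
          exact ⟨k, hk⟩
        choose k hk using hyi
        refine ⟨y.support.sup k, Finsupp.ext fun i => ?_⟩
        by_cases hi : i ∈ y.support
        · obtain ⟨e, he⟩ := Nat.exists_eq_add_of_le (Finset.le_sup (f := k) hi)
          show h ^ (y.support.sup k) * y i = 0
          rw [he, pow_add, mul_comm (h ^ k i), mul_assoc, hk, mul_zero]
        · show h ^ (y.support.sup k) * y i = 0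
          rw [Finsupp.notMem_support_iff.1 hi, mul_zero])
      (Set.range rb) bD (by
        show (show P.generators.I →₀ Γ(Tc, Tc.basicOpen h) from PresGen.resC (R := Tc.ringCatSheaf.over (pre g W)) a'' (bD : P.generators.I →₀ (Tc.ringCatSheaf.over (pre g W)).obj.obj (op D))) ∈ Submodule.span Γ(Tc, Tc.basicOpen h) _
        refine (show _ = _ from hd.symm) ▸ ?_
        refine Submodule.sum_mem _ fun j _ => Submodule.smul_mem _ _ (Submodule.subset_span ⟨rb j, ⟨j, rfl⟩, ?_⟩)
        refine Finsupp.ext fun i => ?_
        exact (ConcreteCategory.congr_hom ((Tc.ringCatSheaf.over (pre g W)).obj.map_comp (toTop D).op a''.op) (B j i)).symm)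
    refine ⟨h ^ (n + 1), ?_, by rw [Tc.basicOpen_pow h (Nat.succ_pos n)]; exact hxh⟩
    show h ^ (n + 1) • bD ∈ Submodule.span Γ(Tc, pre g Z.left) (Set.range rb)
    rw [pow_succ', mul_smul]
    exact Submodule.smul_mem _ _ hn
  have h2 : bD ∈ Submodule.span Γ(Tc, pre g Z.left) (Set.range rb) := by
    rw [← one_smul Γ(Tc, pre g Z.left) bD]
    exact h1
  show PresGen.lc P.generators Z bD = 0
  refine (Submodule.span_le (p := LinearMap.ker (PresGen.lc P.generators Z))).2 ?_ h2
  rintro _ ⟨j, rfl⟩
  show PresGen.lc P.generators Z (PresGen.resC (toTop Z) (B j)) = 0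
  rw [← PresGen.lc_map, ← PresGen.π_combFree, hB, PresGen.π_rel]
  exact map_zero _

/-- The unit is surjective on affine opens of the presentation. -/
theorem unit_surj (P : (N.over W).Presentation) (hW : IsCompact (W : Set U)) [(L.obj N).IsQuasicoherent] (Z : Over W) (hZ : IsAffineOpen Z.left)
    (m : (L.obj N).val.obj (op (pre g Z.left))) :
    ∃ n : N.val.obj (op Z.left), (adj.unit.app N).val.app (op Z.left) n = m := by
  obtain ⟨B, hB⟩ := exists_B P hW
  obtain ⟨f, π, w, hc, hπ, -⟩ := exists_presentation_pull adj P B hB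
  let τ := SheafOfModules.presentationOfIsCokernelFree f π w hc
  let D : Over (pre g W) := (sliceF g W).obj Z
  let mD : Γ(L.obj N, pre g Z.left) := m
  let tg : P.generators.I → Γ(L.obj N, pre g Z.left) := fun i => PresGen.gen τ.generators i D
  let Id : Ideal Γ(Tc, pre g Z.left) :=
    (Submodule.span Γ(Tc, pre g Z.left) (Set.range tg)).comap (LinearMap.toSpanSingleton _ _ mD)
  obtain ⟨S, hS, hS'⟩ := PresGen.exists_local_lc τ.generators (X := D) m
  have h1 : (1 : Γ(Tc, pre g Z.left)) ∈ Id := one_mem_of_forall (hg.aff Z.left hZ) Id fun x hx => by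
    obtain ⟨D', a, hxD', ha⟩ := Pres.exists_of_mem D hS hx
    obtain ⟨h, hle, hxh⟩ := (hg.aff Z.left hZ).exists_basicOpen_le (V := D'.left) ⟨x, hxD'⟩ hx
    have hD : (Tc.basicOpen h : Tc.Opens) ≤ pre g Z.left := Tc.basicOpen_le h
    let D'' : Over (pre g W) := Over.mk (homOfLE hD ≫ D.hom)
    let a'' : D'' ⟶ D := Over.homMk (homOfLE hD) rfl
    let c : D'' ⟶ D' := Over.homMk (homOfLE hle) (Subsingleton.elim _ _)
    obtain ⟨d, hd⟩ := hS' a'' (Pres.hom_eq (c ≫ a) a'' ▸ S.downward_closed ha c)
    letI : Algebra Γ(Tc, pre g Z.left) Γ(Tc, Tc.basicOpen h) := (Tc.presheaf.map (homOfLE hD).op).hom.toAlgebra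
    haveI : IsLocalization.Away h Γ(Tc, Tc.basicOpen h) := (hg.aff Z.left hZ).isLocalization_of_eq_basicOpen h (homOfLE hD) rfl
    obtain ⟨n, hn⟩ := exists_pow_smul_mem_span (S := Γ(Tc, Tc.basicOpen h)) h
      (Groth.Agent.Lib.QCoh.Localizing.res (L.obj N) hD)
      (fun r y => Groth.Agent.Lib.QCoh.Localizing.res_smul (M := L.obj N) hD r y)
      (fun y hy => (Groth.Agent.Lib.QCoh.Localizing.localizes_of_isAffineOpen (L.obj N) (hg.aff Z.left hZ) h).sep.exists_of_eq rfl hD y hy)
      (Set.range tg) mD (by
        show (L.obj N).val.map (homOfLE hD).op m ∈ Submodule.span Γ(Tc, Tc.basicOpen h) ((Groth.Agent.Lib.QCoh.Localizing.res (L.obj N) hD) '' Set.range tg)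
        refine (show (L.obj N).val.map (homOfLE hD).op m = _ from hd.symm) ▸ ?_
        rw [Finsupp.linearCombination_apply]
        refine Submodule.sum_mem _ fun i _ => Submodule.smul_mem _ _ (Submodule.subset_span ⟨tg i, ⟨i, rfl⟩, ?_⟩)
        exact PresGen.gen_map τ.generators i a'')
    refine ⟨h ^ (n + 1), ?_, by rw [Tc.basicOpen_pow h (Nat.succ_pos n)]; exact hxh⟩
    show h ^ (n + 1) • mD ∈ Submodule.span Γ(Tc, pre g Z.left) (Set.range tg)
    rw [pow_succ', mul_smul]
    exact Submodule.smul_mem _ _ hn
  have h2 : mD ∈ Submodule.span Γ(Tc, pre g Z.left) (Set.range tg) := by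
    rw [← one_smul Γ(Tc, pre g Z.left) mD]
    exact h1
  obtain ⟨c, hc'⟩ := Finsupp.mem_span_range_iff_exists_finsupp.1 h2
  refine ⟨PresGen.lc P.generators Z c, ?_⟩
  refine (map_lc P _ (restrictUnit adj N) Z c).trans (Eq.trans ?_ hc')
  rw [Finsupp.linearCombination_apply]
  refine Finsupp.sum_congr fun i _ => congrArg (c i • ·) ?_
  exact (eval_t adj P i Z).symm.trans (congrArg (fun a => PresheafOfModules.sections.eval a (op D)) (hπ i)).symm

end Groth.Agent.Lib.CartPull
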