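import Groth.Agent.Lib.CartPull.Local

/-!
# Quasi-coherence of pullbacks and the unit
-/

set_option autoImplicit false
set_option linter.style.haveILetI false
set_option backward.isDefEq.respectTransparency false
set_option backward.isDefEq.respectTransparency.types false
universe u

open CategoryTheory CategoryTheory.Limits AlgebraicGeometry Opposite TopologicalSpace
open Groth.Agent.Lib.EtMod
open Groth.Agent.H30

namespace Groth.Agent.Lib.CartPull

open Groth.Agent.H48.CartPush (Ring' push pre IsAffMap)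

variable {Tc U : Scheme.{u}} {g : Tc.carrier ⟶ U.carrier}

/-- A quasi-coherent module has presentations on affine neighbourhoods. -/
theorem exists_affine_presentation (N : SheafOfModules.{u} (Ring' g)) [N.IsQuasicoherent] (y : U) :
    ∃ W : U.Opens, y ∈ W ∧ IsAffineOpen W ∧ Nonempty (N.over W).Presentation := by
  obtain ⟨q⟩ := SheafOfModules.IsQuasicoherent.nonempty_quasicoherentData (M := N)
  have hy : y ∈ (⨆ i, q.X i : Opens U) := by
    rw [(Opens.coversTop_iff _ _).1 q.coversTop]
    trivial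
  obtain ⟨i, hi⟩ := Opens.mem_iSup.1 hy
  obtain ⟨_, ⟨W, hW, rfl⟩, hyW, hle⟩ := U.isBasis_affineOpens.exists_subset_of_mem_open hi (q.X i).isOpen
  refine ⟨W, hyW, hW, ?_⟩
  let r : W ⟶ q.X i := homOfLE hle
  haveI : PreservesColimitsOfSize.{u, u} (SheafOfModules.overMap (Ring' g) r) :=
    (SheafOfModules.overMapPushforwardAdj (Ring' g) r).leftAdjoint_preservesColimits
  let σ := (q.presentation i).map (SheafOfModules.overMap (Ring' g) r) (SheafOfModules.overMapUnitIso r).symm
  exact ⟨σ.ofIsIso ((SheafOfModules.overFunctorMap (Ring' g) r).hom.app N)⟩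

variable (hg : IsAffMap g)
include hg

/-- The pullback is quasi-coherent and the unit is an isomorphism. -/
theorem isQuasicoherent_and_isIso {L : SheafOfModules.{u} (Ring' g) ⥤ Tc.Modules} (adj : L ⊣ push g)
    (N : SheafOfModules.{u} (Ring' g))
    (hloc : ∀ y : U, ∃ W : U.Opens, y ∈ W ∧ IsAffineOpen W ∧ Nonempty (N.over W).Presentation) :
    (L.obj N).IsQuasicoherent ∧ IsIso (adj.unit.app N) := by
  have hq : (L.obj N).IsQuasicoherent := by
    refine Groth.Agent.Lib.FSchInd28.Span.isQuasicoherent_of_span _ fun x => ?_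
    obtain ⟨W, hxW, hW, ⟨P⟩⟩ := hloc (g x)
    obtain ⟨B, hB⟩ := exists_B P hW.isCompact
    obtain ⟨f, π, w, hc, -⟩ := exists_presentation_pull adj P B hB
    exact ⟨pre g W, hxW, ⟨SheafOfModules.presentationOfIsCokernelFree f π w hc⟩⟩
  haveI := hq
  refine ⟨hq, ?_⟩
  let η := adj.unit.app N
  have hinj : ∀ (V : U.Opens) (n : N.val.obj (op V)), η.val.app (op V) n = 0 → n = 0 := by
    intro V n hn
    refine SubSheaf.sections_ext N (S := ⟨fun V' f => N.val.map f.op n = 0, fun {V' V''} f hf h => by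
      rw [op_comp, PresheafOfModules.map_comp_apply, hf, map_zero]⟩) (fun z hz => ?_)
      (fun V' f hf => hf.trans (map_zero (N.val.map f.op).hom).symm)
    obtain ⟨W, hzW, hW, ⟨P⟩⟩ := hloc z
    let Z₁ : Over W := Over.mk (homOfLE (inf_le_left : W ⊓ V ≤ W))
    let a : Z₁.left ⟶ V := homOfLE inf_le_right
    obtain ⟨S, hS, hS'⟩ := PresGen.exists_local_lc P.generators (X := Z₁) (N.val.map a.op n)
    obtain ⟨Z₂, c, hz₂, hc⟩ := Pres.exists_of_mem Z₁ hS (z := z) ⟨hzW, hz⟩
    obtain ⟨b, hb⟩ := hS' c hc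
    obtain ⟨_, ⟨V', hV', rfl⟩, hzV', hle⟩ := U.isBasis_affineOpens.exists_subset_of_mem_open hz₂ Z₂.left.isOpen
    let Z : Over W := Over.mk (homOfLE hle ≫ Z₂.hom)
    let d : Z ⟶ Z₂ := Over.homMk (homOfLE hle) rfl
    refine ⟨V', d.left ≫ c.left ≫ a, ?_, hzV'⟩
    have e : PresGen.lc P.generators Z (PresGen.resC d b) = N.val.map (d.left ≫ c.left ≫ a).op n := by
      rw [← PresGen.lc_map, hb]
      show (N.val.presheaf.map (a.op) ≫ N.val.presheaf.map c.left.op ≫ N.val.presheaf.map d.left.op) n = _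
      rw [← Functor.map_comp, ← Functor.map_comp]
      rfl
    have h0 : (restrictUnit adj N).val.app (op Z) (PresGen.lc P.generators Z (PresGen.resC d b)) = 0 := by
      rw [e]
      show η.val.app (op V') (N.val.map (d.left ≫ c.left ≫ a).op n) = 0
      exact (PresheafOfModules.naturality_apply η.val (d.left ≫ c.left ≫ a).op n).trans ((congrArg _ hn).trans (map_zero _))
    exact e.symm.trans (unit_zero adj P hg hW.isCompact Z hV' _ h0)
  have hsurj : ∀ (V : U.Opens) (m : ((push g).obj (L.obj N)).val.obj (op V)), ∀ z ∈ V,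
      ∃ (V' : U.Opens) (f : V' ⟶ V), (∃ n, η.val.app (op V') n = ((push g).obj (L.obj N)).val.map f.op m) ∧ z ∈ V' := by
    intro V m z hz
    obtain ⟨W, hzW, hW, ⟨P⟩⟩ := hloc z
    obtain ⟨_, ⟨V', hV', rfl⟩, hzV', hle⟩ := U.isBasis_affineOpens.exists_subset_of_mem_open
      (a := z) (u := ((W ⊓ V : U.Opens) : Set U)) ⟨hzW, hz⟩ (W ⊓ V).isOpen
    have lW : V' ≤ W := fun x hx => (hle hx).1
    have lV : V' ≤ V := fun x hx => (hle hx).2
    exact ⟨V', homOfLE lV, unit_surj adj hg P hW.isCompact (Over.mk (homOfLE lW)) hV' _, hzV'⟩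
  let ηs := (SheafOfModules.toSheaf.{u} (Ring' g)).map η
  haveI : Presheaf.IsLocallyInjective (Opens.grothendieckTopology U) ηs.hom := by
    refine Presheaf.isLocallyInjective_of_injective _ _ fun V => ?_
    exact (injective_iff_map_eq_zero (η.val.app V).hom).2 fun n hn => hinj V.unop n hn
  haveI : Presheaf.IsLocallySurjective (Opens.grothendieckTopology U) ηs.hom :=
    ⟨fun {V} m z hz => by
      obtain ⟨V', f, hf, hzV'⟩ := hsurj V m z hz
      exact ⟨V', f, hf, hzV'⟩⟩
  haveI : Mono ηs := by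
    haveI : Sheaf.IsLocallyInjective ηs := ‹_›
    exact Sheaf.mono_of_isLocallyInjective ηs
  haveI : Epi ηs := by
    haveI : Sheaf.IsLocallySurjective ηs := ‹_›
    infer_instance
  haveI : Mono η := (SheafOfModules.toSheaf.{u} (Ring' g)).mono_of_mono_map inferInstance
  haveI : Epi η := (SheafOfModules.toSheaf.{u} (Ring' g)).epi_of_epi_map inferInstance
  exact isIso_of_mono_of_epi η

end Groth.Agent.Lib.CartPull
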