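import Groth.Agent.H48.CartPush
import Mathlib.Algebra.Category.ModuleCat.Sheaf.PushforwardContinuous

/-!
# Restriction of pullbacks along a continuous map of underlying spaces

For `g : Tc ⟶ U` and an open `W` of `U`, the restriction of the unit `N ⟶ g_* g^* N` to `W` is
universal among maps from `N|W` to direct images of modules on `g⁻¹ W`.
-/

set_option autoImplicit false
set_option linter.style.haveILetI false
set_option backward.isDefEq.respectTransparency false
set_option backward.isDefEq.respectTransparency.types false
universe u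

open CategoryTheory CategoryTheory.Limits AlgebraicGeometry Opposite TopologicalSpace

namespace Groth.Agent.Lib.CartPull

open Groth.Agent.H48.CartPush (Ring' push pre)

variable {Tc U : Scheme.{u}} (g : Tc.carrier ⟶ U.carrier) (W : U.Opens)

instance preservesFiniteLimits_map : PreservesFiniteLimits (Opens.map g) := preservesFiniteLimits_of_flat _

instance preservesOneHypercovers_map :
    Functor.PreservesOneHypercovers.{u} (Opens.map g) (Opens.grothendieckTopology U) (Opens.grothendieckTopology Tc) :=
  Functor.PreservesOneHypercovers.of_coverPreserving (CoverPreserving.of_isContinuous _ _ _)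

/-- The functor between slices. -/
noncomputable abbrev sliceF : Over W ⥤ Over (pre g W) := Over.post (Opens.map g)

/-- The ring map between slices. -/
noncomputable def sliceRingHom :
    (Ring' g).over W ⟶ ((sliceF g W).sheafPushforwardContinuous RingCat.{u}
      ((Opens.grothendieckTopology U).over W) ((Opens.grothendieckTopology Tc).over (pre g W))).obj
        (Tc.ringCatSheaf.over (pre g W)) :=
  ObjectProperty.homMk { app := fun _ => 𝟙 _ }

/-- The direct image between slices. -/
noncomputable abbrev sP : SheafOfModules.{u} (Tc.ringCatSheaf.over (pre g W)) ⥤ SheafOfModules.{u} ((Ring' g).over W) :=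
  SheafOfModules.pushforward.{u} (sliceRingHom g W)

/-- Extension commutes with direct images. -/
noncomputable def starIso :
    Over.star W ⋙ sliceF g W ≅ Opens.map g ⋙ Over.star (pre g W) :=
  have hle : ∀ (V : U.Opens), ((Over.star W ⋙ sliceF g W).obj V).left = ((Opens.map g ⋙ Over.star (pre g W)).obj V).left := fun V => by
    refine le_antisymm (leOfHom (Limits.prod.lift ((Opens.map g).map Limits.prod.fst) ((Opens.map g).map Limits.prod.snd))) ?_
    intro x hx
    exact leOfHom (Limits.prod.lift (homOfLE inf_le_left) (homOfLE inf_le_right) : W ⊓ V ⟶ W ⨯ V)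
      (show g x ∈ W ⊓ V from ⟨(leOfHom (Limits.prod.fst : pre g W ⨯ pre g V ⟶ pre g W)) hx,
        (leOfHom (Limits.prod.snd : pre g W ⨯ pre g V ⟶ pre g V)) hx⟩)
  NatIso.ofComponents (fun V => Over.isoMk (eqToIso (hle V)) (Subsingleton.elim _ _))
    (fun _ => Over.OverMorphism.ext (Subsingleton.elim _ _))

instance isContinuous_starSlice :
    (Over.star W ⋙ sliceF g W).IsContinuous (Opens.grothendieckTopology U)
      ((Opens.grothendieckTopology Tc).over (pre g W)) :=
  Functor.isContinuous_comp _ _ _ ((Opens.grothendieckTopology U).over W) _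

instance isContinuous_mapStar :
    (Opens.map g ⋙ Over.star (pre g W)).IsContinuous (Opens.grothendieckTopology U)
      ((Opens.grothendieckTopology Tc).over (pre g W)) :=
  Functor.isContinuous_comp _ _ _ (Opens.grothendieckTopology Tc) _

/-- Direct images commute with extensions from slices. -/
noncomputable def pushIso :
    sP g W ⋙ SheafOfModules.pushforward.{u} (SheafOfModules.pushforwardOver (R := Ring' g) W) ≅
      SheafOfModules.pushforward.{u} (SheafOfModules.pushforwardOver (R := Tc.ringCatSheaf) (pre g W)) ⋙ push g := by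
  refine SheafOfModules.pushforwardComp _ _ ≪≫
    (SheafOfModules.pushforwardCongr₂ _ (starIso g W).symm ?_) ≪≫
      (SheafOfModules.pushforwardComp _ _).symm
  ext V : 3
  dsimp [sliceRingHom, SheafOfModules.pushforwardOver]
  simp only [Category.id_comp]
  exact (Tc.ringCatSheaf.obj.map_comp _ _).symm.trans (congrArg _ (Subsingleton.elim _ _))

variable {g W}

/-- Restrict a map along the unit. -/
noncomputable def restrictUnit {L : SheafOfModules.{u} (Ring' g) ⥤ Tc.Modules} (adj : L ⊣ push g)
    (N : SheafOfModules.{u} (Ring' g)) :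
    N.over W ⟶ (sP g W).obj ((L.obj N).over (pre g W)) :=
  ((SheafOfModules.overFunctor (Ring' g) W).map (adj.unit.app N) :)

theorem pushIso_inv_app_app (A : SheafOfModules.{u} (Tc.ringCatSheaf.over (pre g W))) (V : U.Opens) (x) :
    ((pushIso g W).inv.app A).val.app (op V) x = A.val.map ((starIso g W).hom.app V).op x := rfl

theorem map_three (M : Tc.Modules) {a b c : Tc.Opens} (i : b ⟶ a) (j : c ⟶ b) (k : a ⟶ c) (m : M.val.obj (op a)) :
    M.val.map k.op (M.val.map j.op (M.val.map i.op m)) = m := by
  show (M.val.presheaf.map i.op ≫ M.val.presheaf.map j.op ≫ M.val.presheaf.map k.op) m = m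
  rw [← Functor.map_comp, ← Functor.map_comp, Subsingleton.elim (i.op ≫ j.op ≫ k.op) (𝟙 _), CategoryTheory.Functor.map_id]
  rfl

theorem unitT_app (M : Tc.Modules) (V : Tc.Opens) :
    ∃ j : ((Over.star (pre g W)).obj V).left ⟶ V, ∀ x : M.val.obj (op V),
      ((SheafOfModules.overPushforwardOverAdj (R := Tc.ringCatSheaf) (pre g W)).unit.app M).val.app (op V) x =
        M.val.map j.op x :=
  ⟨(Over.forgetAdjStar (pre g W)).counit.app V, fun _ => rfl⟩

theorem counitU_app (A : SheafOfModules.{u} (Tc.ringCatSheaf.over (pre g W))) (Z : Over W) :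
    ∃ k : (sliceF g W).obj Z ⟶ (sliceF g W).obj ((Over.star W).obj Z.left), ∀ x,
      ((SheafOfModules.overPushforwardOverAdj (R := Ring' g) W).counit.app ((sP g W).obj A)).val.app (op Z) x =
        A.val.map k.op x :=
  ⟨(sliceF g W).map ((Over.forgetAdjStar W).unit.app Z), fun _ => rfl⟩

theorem adjU_pushIso (M : Tc.Modules) :
    (SheafOfModules.overFunctor (Ring' g) W).map ((push g).map
        ((SheafOfModules.overPushforwardOverAdj (R := Tc.ringCatSheaf) (pre g W)).unit.app M)) ≫
      (SheafOfModules.overFunctor (Ring' g) W).map ((pushIso g W).inv.app (M.over (pre g W))) ≫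
        (SheafOfModules.overPushforwardOverAdj (R := Ring' g) W).counit.app
          ((sP g W).obj (M.over (pre g W))) = 𝟙 _ := by
  refine SheafOfModules.hom_ext (PresheafOfModules.hom_ext fun Z => ?_)
  ext m
  obtain ⟨j, hj⟩ := unitT_app (g := g) (W := W) M (pre g Z.unop.left)
  obtain ⟨k, hk⟩ := counitU_app (g := g) (W := W) (M.over (pre g W)) Z.unop
  refine (hk _).trans ((congrArg _ ((pushIso_inv_app_app (M.over (pre g W)) Z.unop.left _).trans
    (congrArg _ (hj m)))).trans ?_)
  exact map_three M j ((starIso g W).hom.app Z.unop.left).left k.left m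

/-- The restricted unit is universal. -/
theorem restrictUnit_bijective {L : SheafOfModules.{u} (Ring' g) ⥤ Tc.Modules} (adj : L ⊣ push g)
    (N : SheafOfModules.{u} (Ring' g)) (B : SheafOfModules.{u} (Tc.ringCatSheaf.over (pre g W))) :
    Function.Bijective fun c : (L.obj N).over (pre g W) ⟶ B => restrictUnit adj N ≫ (sP g W).map c := by
  let a₁ := adj.comp (SheafOfModules.overPushforwardOverAdj (R := Tc.ringCatSheaf) (pre g W))
  let a₂ := SheafOfModules.overPushforwardOverAdj (R := Ring' g) W
  let Φ : ((L.obj N).over (pre g W) ⟶ B) ≃ (N.over W ⟶ (sP g W).obj B) :=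
    ((a₁.homEquiv N B).trans ((Iso.homToEquiv ((pushIso g W).app B).symm))).trans (a₂.homEquiv N _).symm
  convert Φ.bijective using 1
  funext c
  have hΦ : ∀ d, Φ d = (SheafOfModules.overFunctor (Ring' g) W).map
      (a₁.homEquiv N B d ≫ (pushIso g W).inv.app B) ≫ a₂.counit.app _ := fun d => a₂.homEquiv_counit _ _ _
  rw [hΦ]
  have e : a₁.homEquiv N B c ≫ (pushIso g W).inv.app B =
      (adj.unit.app N ≫ (push g).map
        ((SheafOfModules.overPushforwardOverAdj (R := Tc.ringCatSheaf) (pre g W)).unit.app (L.obj N)) ≫
          (pushIso g W).inv.app ((L.obj N).over (pre g W))) ≫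
        (SheafOfModules.pushforward.{u} (SheafOfModules.pushforwardOver (R := Ring' g) W)).map ((sP g W).map c) := by
    have hn := (pushIso g W).inv.naturality c
    rw [a₁.homEquiv_unit]
    refine (Category.assoc _ _ _).trans (((congrArg (fun k => a₁.unit.app N ≫ k) hn)).trans ?_)
    simp only [a₁, Adjunction.comp_unit_app, Category.assoc]
    rfl
  rw [e, Functor.map_comp, Category.assoc]
  erw [a₂.counit.naturality]
  rw [Functor.map_comp, Functor.map_comp]
  simp only [← Category.assoc]
  congr 1
  simp only [Category.assoc]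
  exact ((congrArg (fun k => (SheafOfModules.overFunctor (Ring' g) W).map (adj.unit.app N) ≫ k)
    (adjU_pushIso (L.obj N))).trans (Category.comp_id _)).symm

end Groth.Agent.Lib.CartPull
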